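import Cfsg.Agent.H326.PiC.Two
import Cfsg.Agent.H208.Pi.Fun

/-!
# S4324, task PI-C3 (helper326): the cyclic Sylow theorem for simple groups

`false_of_fus`, `false_of_fus_two`, `false_of_cyclic` : the statements of `tools/plans/S4324_stubs1.lean.txt`.
-/

set_option autoImplicit false

namespace Cfsg.Agent.H326.PiC

open Subgroup Cfsg Cfsg.Agent.H216 Cfsg.Agent.H216.Pi

universe u

theorem funHyp : FunHyp.{u} := fun _ _ _ _ hs hcyc _ hy => H208.Pi.exists_fun hs hcyc hy

theorem false_of_fus {K : Type u} [Group K] [Finite K] [IsSimpleGroup K] (hK : ¬ IsMulCommutative K) {s m : ℕ}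
    (hs : s.Prime) (hcyc : ∀ P : Sylow s K, IsCyclic (P : Subgroup K)) {x : MulAut K} (hx : (orderOf x).Prime)
    (hxs : orderOf x ≠ s) {y : K} (hy : orderOf y = s) (hf : fus x y ≤ m) (h : FC s m x) : False :=
  false_of_fus_of funHyp prodHyp hK hs hcyc hx hxs hy hf h

theorem false_of_fus_two {K : Type u} [Group K] [Finite K] [IsSimpleGroup K] (hK : ¬ IsMulCommutative K) {s m : ℕ}
    (hs : s.Prime) (hcyc : ∀ P : Sylow s K, IsCyclic (P : Subgroup K)) {x : MulAut K} (hx : (orderOf x).Prime)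
    {y : K} (hy : orderOf y = s) (hf : 2 * fus 1 y ≤ m) (h : FC s m x) : False :=
  false_of_fus_two_of funHyp prodHyp hK hs hcyc hx hy hf h

theorem false_of_cyclic {K : Type u} [Group K] [Finite K] [IsSimpleGroup K] (hK : ¬ IsMulCommutative K) {s m : ℕ}
    (hs : s.Prime) (hd : s ∣ Nat.card K) (hcyc : ∀ P : Sylow s K, IsCyclic (P : Subgroup K)) {x : MulAut K}
    (hx : (orderOf x).Prime) (hxs : orderOf x ≠ s) (hm : s - 1 ≤ m) (h : FC s m x) : False :=
  false_of_cyclic_of funHyp prodHyp hK hs hd hcyc hx hxs hm h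

end Cfsg.Agent.H326.PiC
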